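import Groth.Agent.L19.LRSImm.Factor
import Groth.Agent.S9502
import Mathlib.AlgebraicGeometry.IdealSheaf.Subscheme
import Mathlib.AlgebraicGeometry.Morphisms.ClosedImmersion

/-!
Closed immersions of locally ringed spaces into schemes are closed subschemes.
-/

set_option autoImplicit false
set_option linter.unusedSectionVars false
set_option linter.style.haveILetI false
set_option backward.isDefEq.respectTransparency false
set_option backward.isDefEq.respectTransparency.types false

universe u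

open CategoryTheory TopologicalSpace Opposite AlgebraicGeometry

namespace Groth.L19.LRSI

variable {X : Scheme.{u}} {Z : LocallyRingedSpace.{u}} (i : Z ⟶ X.toLocallyRingedSpace)

/-- kernel of `O_{X,x} → (i_* O_Z)_x` -/
noncomputable def kerStalk (x : X) : Ideal (X.presheaf.stalk x) :=
  RingHom.ker ((TopCat.Presheaf.stalkFunctor CommRingCat x).map i.c).hom

/-- kernel on sections -/
noncomputable def kerSec (U : X.Opens) : Ideal Γ(X, U) := RingHom.ker (i.c.app (op U)).hom

lemma mem_kerSec (U : X.Opens) (s : Γ(X, U)) : s ∈ kerSec i U ↔ i.c.app (op U) s = 0 :=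
  RingHom.mem_ker

lemma germ_mem_kerStalk {U : X.Opens} {x : X} (hx : x ∈ U) {s : Γ(X, U)} (h : s ∈ kerSec i U) :
    X.presheaf.germ U x hx s ∈ kerStalk i x := by
  rw [mem_kerSec] at h
  rw [kerStalk, RingHom.mem_ker]
  refine (TopCat.Presheaf.stalkFunctor_map_germ_apply U x hx i.c s).trans ?_
  exact (congrArg _ h).trans (map_zero _)

lemma mem_kerSec_of_germs {U : X.Opens} {s : Γ(X, U)}
    (h : ∀ (x : X) (hx : x ∈ U), X.presheaf.germ U x hx s ∈ kerStalk i x) : s ∈ kerSec i U := by
  rw [mem_kerSec]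
  apply section_ext
  intro z hz
  rw [map_zero, ← germ_c i U z hz s]
  show (((TopCat.Presheaf.stalkFunctor CommRingCat (i.base z)).map i.c) ≫
    Z.presheaf.stalkPushforward _ i.base z) _ = 0
  rw [CommRingCat.comp_apply]
  exact (congrArg _ (RingHom.mem_ker.1 (h _ hz))).trans (map_zero _)

lemma kills_res {U V : X.Opens} (h : V ≤ U) {s : Γ(X, U)} (hs : s ∈ kerSec i U) :
    X.presheaf.map (homOfLE h).op s ∈ kerSec i V := by
  rw [mem_kerSec] at hs ⊢
  exact (c_res i h s).trans ((congrArg _ hs).trans (map_zero _))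

variable (hK : LRSImm.KerLocallyGenerated i)

include hK in
/-- a section killed on `D(g)` is killed after multiplying by a power of `g` -/
lemma exists_pow_mul_mem {U : X.Opens} (hU : IsAffineOpen U) (g a : Γ(X, U))
    (h : X.presheaf.map (homOfLE (X.basicOpen_le g)).op a ∈ kerSec i (X.basicOpen g)) :
    ∃ m : ℕ, g ^ m * a ∈ kerSec i U := by
  have loc : ∀ x : U, ∃ (m : ℕ) (V : X.Opens), x.1 ∈ V ∧ ∀ (y : X) (hy : y ∈ U), y ∈ V →
      X.presheaf.germ U y hy (g ^ m * a) ∈ kerStalk i y := by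
    intro x
    obtain ⟨U', hxU', ι, s, hs0, hsgen⟩ := hK x.1
    obtain ⟨_, ⟨V, hV, rfl⟩, hxV, hVle⟩ := X.isBasis_affineOpens.exists_subset_of_mem_open
      (show x.1 ∈ (U ⊓ U' : X.Opens) from ⟨x.2, hxU'⟩) (U ⊓ U' : X.Opens).2
    have hVle' : V ≤ U ⊓ U' := hVle
    let J : Ideal Γ(X, V) := Ideal.span (Set.range fun j =>
      X.presheaf.map (homOfLE (hVle'.trans inf_le_right)).op (s j))
    have hJ : ∀ (y : X) (hy : y ∈ V), J.map (X.presheaf.germ V y hy).hom = kerStalk i y := by
      intro y hy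
      rw [Ideal.map_span, kerStalk, ← hsgen y (hVle' hy).2, ← Set.range_comp]
      congr 1
      ext z
      simp only [Set.mem_range, Function.comp_apply]
      refine exists_congr fun j => Eq.congr_left ?_
      exact TopCat.Presheaf.germ_res_apply _ _ _ _ _
    let g' : Γ(X, V) := X.presheaf.map (homOfLE (hVle'.trans inf_le_left)).op g
    let a' : Γ(X, V) := X.presheaf.map (homOfLE (hVle'.trans inf_le_left)).op a
    let ρ := (X.presheaf.map (homOfLE (X.basicOpen_le g')).op).hom
    letI : Algebra Γ(X, V) Γ(X, X.basicOpen g') := ρ.toAlgebra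
    have hloc : IsLocalization.Away g' Γ(X, X.basicOpen g') := hV.isLocalization_basicOpen g'
    have hmem : ρ a' ∈ J.map ρ := by
      rw [(hV.basicOpen g').mem_ideal_iff]
      intro y hy
      have hyV : y ∈ V := X.basicOpen_le g' hy
      have hgy : y ∈ X.basicOpen g := by
        rw [Scheme.basicOpen_res] at hy
        exact hy.2
      rw [Ideal.map_map]
      have e : (X.presheaf.germ (X.basicOpen g') y hy).hom.comp ρ =
          (X.presheaf.germ V y hyV).hom := by
        rw [← CommRingCat.hom_comp, TopCat.Presheaf.germ_res]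
      rw [e, hJ y hyV]
      have : (X.presheaf.germ (X.basicOpen g') y hy).hom (ρ a') =
          X.presheaf.germ (X.basicOpen g) y hgy (X.presheaf.map (homOfLE (X.basicOpen_le g)).op a) := by
        rw [show (X.presheaf.germ (X.basicOpen g') y hy).hom (ρ a') = X.presheaf.germ V y hyV a' from
          RingHom.congr_fun e a']
        rw [TopCat.Presheaf.germ_res_apply, TopCat.Presheaf.germ_res_apply]
      rw [this]
      exact germ_mem_kerStalk i hgy h
    obtain ⟨c, hc, hcmem⟩ :=
      (IsLocalization.algebraMap_mem_map_algebraMap_iff (Submonoid.powers g')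
        Γ(X, X.basicOpen g') J a').1 hmem
    obtain ⟨m, rfl⟩ := hc
    refine ⟨m, V, hxV, fun y hy hyV => ?_⟩
    rw [← hJ y hyV]
    have e : X.presheaf.germ U y hy (g ^ m * a) = X.presheaf.germ V y hyV (g' ^ m * a') := by
      simp only [map_mul, map_pow, g', a', TopCat.Presheaf.germ_res_apply]
    rw [e]
    exact Ideal.mem_map_of_mem _ hcmem
  choose m V hxV hmV using loc
  obtain ⟨t, ht⟩ := hU.isCompact.elim_finite_subcover (fun x : U => (V x : Set X))
    (fun x => (V x).2) (fun x hx => Set.mem_iUnion.2 ⟨⟨x, hx⟩, hxV ⟨x, hx⟩⟩)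
  refine ⟨t.sup m, mem_kerSec_of_germs i fun y hy => ?_⟩
  obtain ⟨x, hxt, hyx⟩ := Set.mem_iUnion₂.1 (ht hy)
  rw [← Nat.sub_add_cancel (Finset.le_sup hxt : m x ≤ t.sup m), pow_add, mul_assoc, map_mul]
  exact Ideal.mul_mem_left _ _ (hmV x y hy hyx)

include hK in
lemma kerStalk_eq_map {U : X.Opens} (hU : IsAffineOpen U) (x : X) (hx : x ∈ U) :
    kerStalk i x = (kerSec i U).map (X.presheaf.germ U x hx).hom := by
  refine le_antisymm ?_ ?_
  · obtain ⟨U', hxU', ι, s, hs0, hsgen⟩ := hK x
    rw [kerStalk, ← hsgen x hxU', Ideal.span_le]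
    rintro _ ⟨j, rfl⟩
    obtain ⟨g, hgle, hxg⟩ := hU.exists_basicOpen_le (V := U') ⟨x, hxU'⟩ hx
    let ρ := (X.presheaf.map (homOfLE (X.basicOpen_le g)).op).hom
    letI : Algebra Γ(X, U) Γ(X, X.basicOpen g) := ρ.toAlgebra
    have hloc : IsLocalization.Away g Γ(X, X.basicOpen g) := hU.isLocalization_basicOpen g
    obtain ⟨⟨a, ⟨_, n, rfl⟩⟩, hc⟩ := IsLocalization.surj (Submonoid.powers g)
      (X.presheaf.map (homOfLE hgle).op (s j))
    dsimp only at hc
    have ht : X.presheaf.map (homOfLE hgle).op (s j) ∈ kerSec i (X.basicOpen g) :=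
      kills_res i hgle ((mem_kerSec i U' _).2 (hs0 j))
    have ha : ρ a ∈ kerSec i (X.basicOpen g) := by
      show algebraMap Γ(X, U) Γ(X, X.basicOpen g) a ∈ _
      rw [← hc]
      exact Ideal.mul_mem_right _ _ ht
    obtain ⟨m, hm⟩ := exists_pow_mul_mem i hK hU g a ha
    have hu : IsUnit (X.presheaf.germ U x hx g) := (X.mem_basicOpen g x hx).1 hxg
    have key : X.presheaf.germ U x hx (g ^ m * a) =
        X.presheaf.germ U' x hxU' (s j) * X.presheaf.germ U x hx g ^ (n + m) := by
      have h1 := congrArg (X.presheaf.germ (X.basicOpen g) x hxg) hc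
      rw [map_mul] at h1
      change _ * X.presheaf.germ _ x hxg (X.presheaf.map _ (g ^ n)) =
        X.presheaf.germ _ x hxg (X.presheaf.map _ a) at h1
      rw [TopCat.Presheaf.germ_res_apply, TopCat.Presheaf.germ_res_apply,
        TopCat.Presheaf.germ_res_apply, map_pow] at h1
      rw [map_mul, map_pow, ← h1, pow_add]
      ring
    have h2 := Ideal.mem_map_of_mem (X.presheaf.germ U x hx).hom hm
    rw [show (X.presheaf.germ U x hx).hom (g ^ m * a) = _ from key] at h2
    exact (Ideal.mul_unit_mem_iff_mem _ (hu.pow _)).1 h2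
  · rw [Ideal.map_le_iff_le_comap]
    exact fun s hs => germ_mem_kerStalk i hx hs

/-- the ideal sheaf of a closed immersion of locally ringed spaces -/
noncomputable def idealData (hK : LRSImm.KerLocallyGenerated i) : X.IdealSheafData where
  ideal U := kerSec i U.1
  map_ideal_basicOpen U g := by
    apply le_antisymm
    · rw [Ideal.map_le_iff_le_comap]
      exact fun s hs => kills_res i (X.basicOpen_le g) hs
    · intro s hs
      rw [(U.2.basicOpen g).mem_ideal_iff]
      intro y hy
      have hyU : y ∈ U.1 := X.basicOpen_le g hy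
      rw [Ideal.map_map, show (X.presheaf.germ (X.basicOpen g) y hy).hom.comp
          (X.presheaf.map (homOfLE (X.basicOpen_le g)).op).hom = (X.presheaf.germ U.1 y hyU).hom by
        rw [← CommRingCat.hom_comp, TopCat.Presheaf.germ_res], ← kerStalk_eq_map i hK U.2 y hyU]
      exact germ_mem_kerStalk i hy hs

omit hK in
lemma isClosedImmersion_toLRS {Y : Scheme.{u}} (f : Y ⟶ X) [IsClosedImmersion f] :
    LRSImm.IsClosedImmersion f.toLRSHom := by
  refine Groth.Agent.S9502.result f f.isClosedEmbedding ?_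
  rw [TopCat.Presheaf.isLocallySurjective_iff]
  intro U t x hx
  obtain ⟨_, ⟨V, hV, rfl⟩, hxV, hVU⟩ := X.isBasis_affineOpens.exists_subset_of_mem_open hx U.2
  have hle : V ≤ U := hVU
  refine ⟨V, hle, ?_, hxV⟩
  exact Scheme.Hom.app_surjective f V hV _

/-- closed immersions with the same kernels on an affine cover are isomorphic -/
lemma exists_iso_of_kerSec {Z' : LocallyRingedSpace.{u}} (i' : Z' ⟶ X.toLocallyRingedSpace)
    (hi : LRSImm.IsClosedImmersion i) (hi' : LRSImm.IsClosedImmersion i')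
    (h : ∀ x : X, ∃ (U : X.Opens), IsAffineOpen U ∧ x ∈ U ∧ kerSec i U = kerSec i' U) :
    ∃ e : Z ≅ Z', e.hom ≫ i' = i := by
  have hst : ∀ x, kerStalk i x = kerStalk i' x := by
    intro x
    obtain ⟨U, hU, hx, he⟩ := h x
    rw [kerStalk_eq_map i hi.2.2 hU x hx, kerStalk_eq_map i' hi'.2.2 hU x hx, he]
  refine exists_iso i i' hi' (fun U s => ?_) hi
  constructor <;> intro hs
  · exact (mem_kerSec i' U s).1 (mem_kerSec_of_germs i' fun x hx =>
      hst x ▸ germ_mem_kerStalk i hx ((mem_kerSec i U s).2 hs))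
  · exact (mem_kerSec i U s).1 (mem_kerSec_of_germs i fun x hx =>
      (hst x).symm ▸ germ_mem_kerStalk i' hx ((mem_kerSec i' U s).2 hs))

theorem exists_scheme_iso (hi : LRSImm.IsClosedImmersion i) :
    ∃ (Z' : Scheme.{u}) (e : Z'.toLocallyRingedSpace ≅ Z),
      AlgebraicGeometry.IsClosedImmersion (Scheme.Hom.mk (e.hom ≫ i) : Z' ⟶ X) := by
  let I := idealData i hi.2.2
  obtain ⟨e, he⟩ := exists_iso_of_kerSec i I.subschemeι.toLRSHom hi
    (isClosedImmersion_toLRS I.subschemeι) (fun x => by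
      obtain ⟨_, ⟨U, hU, rfl⟩, hxU, -⟩ := X.isBasis_affineOpens.exists_subset_of_mem_open
        (show x ∈ (⊤ : X.Opens) from trivial) (⊤ : X.Opens).2
      refine ⟨U, hU, hxU, ?_⟩
      show I.ideal ⟨U, hU⟩ = RingHom.ker (I.subschemeι.app U).hom
      exact (I.ker_subschemeι_app ⟨U, hU⟩).symm)
  refine ⟨I.subscheme, e.symm, ?_⟩
  have : (Scheme.Hom.mk (e.symm.hom ≫ i) : I.subscheme ⟶ X) = I.subschemeι := by
    apply Scheme.Hom.ext'
    show e.inv ≫ i = I.subschemeι.toLRSHom
    rw [Iso.inv_comp_eq, he]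
  rw [this]
  infer_instance

theorem exists_iso_Spec_quotient (R : Type u) [CommRing R] {Z : LocallyRingedSpace.{u}}
    (i : Z ⟶ (Spec (CommRingCat.of R)).toLocallyRingedSpace) (hi : LRSImm.IsClosedImmersion i)
    (I : Ideal R)
    (hI : I = RingHom.ker ((Scheme.ΓSpecIso (CommRingCat.of R)).inv ≫ i.c.app (op ⊤)).hom) :
    ∃ e : Z ≅ (Spec (CommRingCat.of (R ⧸ I))).toLocallyRingedSpace,
      e.hom ≫ (Spec.map (CommRingCat.ofHom (Ideal.Quotient.mk I))).toLRSHom = i := by
  haveI : IsClosedImmersion (Spec.map (CommRingCat.ofHom (Ideal.Quotient.mk I))) :=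
    IsClosedImmersion.spec_of_surjective _ Ideal.Quotient.mk_surjective
  refine exists_iso_of_kerSec i _ hi (isClosedImmersion_toLRS _) fun x =>
    ⟨⊤, isAffineOpen_top _, trivial, ?_⟩
  ext s
  obtain ⟨r, rfl⟩ := (Scheme.ΓSpecIso (CommRingCat.of R)).symm.commRingCatIsoToRingEquiv.surjective s
  rw [mem_kerSec, mem_kerSec]
  constructor
  · intro h
    have hr : r ∈ I := by rw [hI]; exact h
    show (Spec.map (CommRingCat.ofHom (Ideal.Quotient.mk I))).appTop
      ((Scheme.ΓSpecIso (CommRingCat.of R)).inv r) = 0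
    rw [← CommRingCat.comp_apply, ← Scheme.ΓSpecIso_inv_naturality, CommRingCat.comp_apply]
    simp [Ideal.Quotient.eq_zero_iff_mem.2 hr]
  · intro h
    change (Spec.map (CommRingCat.ofHom (Ideal.Quotient.mk I))).appTop
      ((Scheme.ΓSpecIso (CommRingCat.of R)).inv r) = 0 at h
    rw [← CommRingCat.comp_apply, ← Scheme.ΓSpecIso_inv_naturality, CommRingCat.comp_apply] at h
    have h' := (Scheme.ΓSpecIso _).symm.commRingCatIsoToRingEquiv.injective (h.trans (map_zero _).symm)
    have hr : r ∈ I := Ideal.Quotient.eq_zero_iff_mem.1 h'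
    rw [hI] at hr
    exact hr

end Groth.L19.LRSI
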