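import Groth.Prelude.Def_W4stkremschemesLRS

/-!
Closed immersions of locally ringed spaces: factorisation and uniqueness.
-/

set_option autoImplicit false
set_option linter.unusedSectionVars false
set_option backward.isDefEq.respectTransparency false
set_option backward.isDefEq.respectTransparency.types false

universe u

open CategoryTheory TopologicalSpace Opposite AlgebraicGeometry

namespace Groth.L19.LRSI

variable {Z X Y : LocallyRingedSpace.{u}} (i : Z ⟶ X)

/-- restriction of sections -/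
noncomputable abbrev res (X : LocallyRingedSpace.{u}) {U V : Opens X.toTopCat} (h : V ≤ U) :
    X.presheaf.obj (op U) ⟶ X.presheaf.obj (op V) :=
  X.presheaf.map (homOfLE h).op

/-- preimage of opens along a morphism -/
abbrev pre (i : Z ⟶ X) (U : Opens X.toTopCat) : Opens Z.toTopCat := (Opens.map i.base).obj U

lemma pre_mono {U V : Opens X.toTopCat} (h : V ≤ U) : pre i V ≤ pre i U := fun _ hx => h hx

lemma germ_res {U V : Opens X.toTopCat} (h : V ≤ U) (x : X.toTopCat) (hx : x ∈ V)
    (s : X.presheaf.obj (op U)) :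
    X.presheaf.germ V x hx (res X h s) = X.presheaf.germ U x (h hx) s :=
  TopCat.Presheaf.germ_res_apply _ _ _ _ _

lemma res_res {U V W : Opens X.toTopCat} (h : V ≤ U) (h' : W ≤ V) (s : X.presheaf.obj (op U)) :
    res X h' (res X h s) = res X (h'.trans h) s := by
  show ((X.presheaf.map _ ≫ X.presheaf.map _) : _) s = _
  rw [← Functor.map_comp]
  rfl

lemma c_res {U V : Opens X.toTopCat} (h : V ≤ U) (s : X.presheaf.obj (op U)) :
    i.c.app (op V) (res X h s) = res Z (pre_mono i h) (i.c.app (op U) s) :=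
  ConcreteCategory.congr_hom (i.c.naturality (homOfLE h).op) s

lemma section_ext (U : Opens X.toTopCat) (s t : X.presheaf.obj (op U))
    (h : ∀ (x : X.toTopCat) (hx : x ∈ U), X.presheaf.germ U x hx s = X.presheaf.germ U x hx t) :
    s = t :=
  TopCat.Presheaf.section_ext X.sheaf U s t h

lemma germ_c (U : Opens X.toTopCat) (z : Z.toTopCat) (hz : i.base z ∈ U)
    (s : X.presheaf.obj (op U)) :
    i.stalkMap z (X.presheaf.germ U (i.base z) hz s) =
      Z.presheaf.germ (pre i U) z hz (i.c.app (op U) s) :=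
  LocallyRingedSpace.stalkMap_germ_apply i U z hz s

lemma exists_opens_pre (hi : LRSImm.IsClosedImmersion i) (W : Opens Z.toTopCat) :
    ∃ U : Opens X.toTopCat, pre i U = W := by
  obtain ⟨U, hU, hUW⟩ := (hi.1.isInducing.isOpen_iff).1 W.2
  exact ⟨⟨U, hU⟩, Opens.ext hUW⟩

/-- `s` lifts `t` -/
def IsLift {W : Opens Z.toTopCat} (t : Z.presheaf.obj (op W)) {U : Opens X.toTopCat}
    (s : X.presheaf.obj (op U)) : Prop :=
  ∃ h : pre i U ≤ W, i.c.app (op U) s = res Z h t

lemma IsLift.res {W : Opens Z.toTopCat} {t : Z.presheaf.obj (op W)} {U V : Opens X.toTopCat}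
    {s : X.presheaf.obj (op U)} (h : IsLift i t s) (hVU : V ≤ U) :
    IsLift i t (LRSI.res X hVU s) := by
  obtain ⟨h, e⟩ := h
  exact ⟨(pre_mono i hVU).trans h, by rw [c_res, e, res_res]⟩

lemma exists_isLift (hi : LRSImm.IsClosedImmersion i) {W : Opens Z.toTopCat}
    (t : Z.presheaf.obj (op W)) (z : Z.toTopCat) (hz : z ∈ W) :
    ∃ (U : Opens X.toTopCat) (_ : i.base z ∈ U) (s : X.presheaf.obj (op U)), IsLift i t s := by
  obtain ⟨U0, hU0⟩ := exists_opens_pre i hi W
  subst hU0
  obtain ⟨V, hV, ⟨s, hs⟩, hzV⟩ :=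
    (TopCat.Presheaf.isLocallySurjective_iff i.c).1 hi.2.1 U0 t (i.base z) hz
  exact ⟨V, hzV, s, pre_mono i hV, hs⟩

/-- `f` kills the sections killed by `i` -/
def Kills (f : Y ⟶ X) : Prop :=
  ∀ (U : Opens X.toTopCat) (s : X.presheaf.obj (op U)),
    i.c.app (op U) s = 0 → f.c.app (op U) s = 0

lemma mem_range (hi : LRSImm.IsClosedImmersion i) (f : Y ⟶ X) (hf : Kills i f) (y : Y.toTopCat) :
    f.base y ∈ Set.range i.base := by
  by_contra hy
  let U : Opens X.toTopCat := ⟨(Set.range i.base)ᶜ, hi.1.isClosed_range.isOpen_compl⟩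
  have h0 : i.c.app (op U) 1 = 0 := by
    apply section_ext
    intro z hz
    exact absurd (Set.mem_range_self z) hz
  have h1 := congrArg (Y.presheaf.germ (pre f U) y hy) (hf U 1 h0)
  simp only [map_one, map_zero] at h1
  exact one_ne_zero (α := Y.presheaf.stalk y) h1

variable (hi : LRSImm.IsClosedImmersion i) (f : Y ⟶ X) (hf : Kills i f)

/-- the underlying map of the factorisation -/
noncomputable def baseMap : Y.toTopCat ⟶ Z.toTopCat :=
  TopCat.ofHom ⟨fun y => (mem_range i hi f hf y).choose, by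
    rw [hi.1.isInducing.continuous_iff]
    have : (i.base ∘ fun y => (mem_range i hi f hf y).choose) = f.base :=
      funext fun y => (mem_range i hi f hf y).choose_spec
    exact (congrArg Continuous this).mpr f.base.hom.continuous⟩

lemma base_baseMap (y : Y.toTopCat) : i.base (baseMap i hi f hf y) = f.base y :=
  (mem_range i hi f hf y).choose_spec

include hi hf in
lemma germ_lift_eq {W : Opens Z.toTopCat} {t : Z.presheaf.obj (op W)} {U U' : Opens X.toTopCat}
    {s : X.presheaf.obj (op U)} {s' : X.presheaf.obj (op U')} (hs : IsLift i t s)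
    (hs' : IsLift i t s') (y : Y.toTopCat) (hy : f.base y ∈ U) (hy' : f.base y ∈ U') :
    Y.presheaf.germ (pre f U) y hy (f.c.app (op U) s) =
      Y.presheaf.germ (pre f U') y hy' (f.c.app (op U') s') := by
  obtain ⟨_, e⟩ := hs.res i (inf_le_left : U ⊓ U' ≤ U)
  obtain ⟨_, e'⟩ := hs'.res i (inf_le_right : U ⊓ U' ≤ U')
  have h0 : i.c.app (op (U ⊓ U')) (res X inf_le_left s - res X inf_le_right s') = 0 := by
    rw [map_sub, e, e', sub_self]
  have h1 := hf _ _ h0
  rw [map_sub, sub_eq_zero, c_res, c_res] at h1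
  have h2 := congrArg (Y.presheaf.germ (pre f (U ⊓ U')) y ⟨hy, hy'⟩) h1
  rwa [germ_res, germ_res] at h2

/-- the section `σ` is the image of `t` -/
def IsImage {W : Opens Z.toTopCat} (t : Z.presheaf.obj (op W))
    (σ : Y.presheaf.obj (op ((Opens.map (baseMap i hi f hf)).obj W))) : Prop :=
  ∀ (U : Opens X.toTopCat) (s : X.presheaf.obj (op U)), IsLift i t s →
    ∀ (y : Y.toTopCat) (hy : y ∈ (Opens.map (baseMap i hi f hf)).obj W) (hU : f.base y ∈ U),
      Y.presheaf.germ _ y hy σ = Y.presheaf.germ (pre f U) y hU (f.c.app (op U) s)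

lemma exists_lift_at {W : Opens Z.toTopCat} (t : Z.presheaf.obj (op W)) (y : Y.toTopCat)
    (hy : baseMap i hi f hf y ∈ W) :
    ∃ (U : Opens X.toTopCat) (_ : f.base y ∈ U) (s : X.presheaf.obj (op U)), IsLift i t s := by
  obtain ⟨U, hU, s, hs⟩ := exists_isLift i hi t _ hy
  exact ⟨U, base_baseMap i hi f hf y ▸ hU, s, hs⟩

lemma isImage_unique {W : Opens Z.toTopCat} {t : Z.presheaf.obj (op W)}
    {σ σ' : Y.presheaf.obj (op ((Opens.map (baseMap i hi f hf)).obj W))}
    (h : IsImage i hi f hf t σ) (h' : IsImage i hi f hf t σ') : σ = σ' := by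
  apply section_ext
  intro y hy
  obtain ⟨U, hU, s, hs⟩ := exists_lift_at i hi f hf t y hy
  rw [h U s hs y hy hU, h' U s hs y hy hU]

lemma exists_isImage {W : Opens Z.toTopCat} (t : Z.presheaf.obj (op W)) :
    ∃ σ, IsImage i hi f hf t σ := by
  let W' := (Opens.map (baseMap i hi f hf)).obj W
  choose U hU s hs using fun y : W' => exists_lift_at i hi f hf t y.1 y.2
  have hle : ∀ y : W', pre f (U y) ≤ W' := by
    intro y y' hy'
    refine (hs y).choose ?_
    show i.base (baseMap i hi f hf y') ∈ U y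
    rw [base_baseMap]
    exact hy'
  have cov : W' ≤ iSup fun y : W' => pre f (U y) := fun y hy =>
    Opens.mem_iSup.2 ⟨⟨y, hy⟩, hU ⟨y, hy⟩⟩
  have compat : TopCat.Presheaf.IsCompatible Y.presheaf (fun y : W' => pre f (U y))
      (fun y => f.c.app (op (U y)) (s y)) := by
    intro a b
    apply section_ext
    intro x hx
    rw [TopCat.Presheaf.germ_res_apply, TopCat.Presheaf.germ_res_apply]
    exact germ_lift_eq i hi f hf (hs a) (hs b) x hx.1 hx.2
  obtain ⟨σ, hσ, -⟩ := TopCat.Sheaf.existsUnique_gluing' Y.sheaf _ W'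
    (fun y => homOfLE (hle y)) cov _ compat
  refine ⟨σ, fun U' s' hs' y hy hy' => ?_⟩
  have h1 := congrArg (Y.presheaf.germ (pre f (U ⟨y, hy⟩)) y (hU ⟨y, hy⟩)) (hσ ⟨y, hy⟩)
  replace h1 := (TopCat.Presheaf.germ_res_apply Y.presheaf (homOfLE (hle ⟨y, hy⟩)) y
    (hU ⟨y, hy⟩) σ).symm.trans h1
  exact h1.trans (germ_lift_eq i hi f hf (hs _) hs' y _ hy')

/-- the map on sections -/
noncomputable def secMap {W : Opens Z.toTopCat} (t : Z.presheaf.obj (op W)) :
    Y.presheaf.obj (op ((Opens.map (baseMap i hi f hf)).obj W)) :=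
  (exists_isImage i hi f hf t).choose

lemma isImage_secMap {W : Opens Z.toTopCat} (t : Z.presheaf.obj (op W)) :
    IsImage i hi f hf t (secMap i hi f hf t) :=
  (exists_isImage i hi f hf t).choose_spec

lemma secMap_add {W : Opens Z.toTopCat} (t t' : Z.presheaf.obj (op W)) :
    secMap i hi f hf (t + t') = secMap i hi f hf t + secMap i hi f hf t' := by
  apply section_ext
  intro y hy
  obtain ⟨U, hU, s, hs⟩ := exists_lift_at i hi f hf t y hy
  obtain ⟨U', hU', s', hs'⟩ := exists_lift_at i hi f hf t' y hy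
  obtain ⟨a, e⟩ := hs.res i (inf_le_left : U ⊓ U' ≤ U)
  obtain ⟨_, e'⟩ := hs'.res i (inf_le_right : U ⊓ U' ≤ U')
  have hl : IsLift i (t + t') (res X inf_le_left s + res X inf_le_right s' :
      X.presheaf.obj (op (U ⊓ U'))) :=
    ⟨a, by rw [map_add, e, e', map_add]⟩
  rw [map_add, isImage_secMap i hi f hf (t + t') _ _ hl y hy ⟨hU, hU'⟩,
    isImage_secMap i hi f hf t _ _ ⟨a, e⟩ y hy ⟨hU, hU'⟩,
    isImage_secMap i hi f hf t' _ _ ⟨a, e'⟩ y hy ⟨hU, hU'⟩, map_add, map_add]

lemma secMap_mul {W : Opens Z.toTopCat} (t t' : Z.presheaf.obj (op W)) :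
    secMap i hi f hf (t * t') = secMap i hi f hf t * secMap i hi f hf t' := by
  apply section_ext
  intro y hy
  obtain ⟨U, hU, s, hs⟩ := exists_lift_at i hi f hf t y hy
  obtain ⟨U', hU', s', hs'⟩ := exists_lift_at i hi f hf t' y hy
  obtain ⟨a, e⟩ := hs.res i (inf_le_left : U ⊓ U' ≤ U)
  obtain ⟨_, e'⟩ := hs'.res i (inf_le_right : U ⊓ U' ≤ U')
  have hl : IsLift i (t * t') (res X inf_le_left s * res X inf_le_right s' :
      X.presheaf.obj (op (U ⊓ U'))) :=
    ⟨a, by rw [map_mul, e, e', map_mul]⟩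
  rw [map_mul, isImage_secMap i hi f hf (t * t') _ _ hl y hy ⟨hU, hU'⟩,
    isImage_secMap i hi f hf t _ _ ⟨a, e⟩ y hy ⟨hU, hU'⟩,
    isImage_secMap i hi f hf t' _ _ ⟨a, e'⟩ y hy ⟨hU, hU'⟩, map_mul, map_mul]

lemma secMap_one {W : Opens Z.toTopCat} :
    secMap i hi f hf (1 : Z.presheaf.obj (op W)) = 1 := by
  apply section_ext
  intro y hy
  obtain ⟨U, hU, s, hs⟩ := exists_lift_at i hi f hf (1 : Z.presheaf.obj (op W)) y hy
  obtain ⟨a, -⟩ := hs
  rw [map_one, isImage_secMap i hi f hf 1 U 1 ⟨a, (map_one _).trans (map_one _).symm⟩ y hy hU, map_one, map_one]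

/-- the map on sections, as a ring homomorphism -/
noncomputable def secHom (W : Opens Z.toTopCat) :
    Z.presheaf.obj (op W) ⟶ Y.presheaf.obj (op ((Opens.map (baseMap i hi f hf)).obj W)) :=
  CommRingCat.ofHom (RingHom.mk'
    ⟨⟨secMap i hi f hf, secMap_one i hi f hf⟩, secMap_mul i hi f hf⟩ (secMap_add i hi f hf))

lemma secHom_apply {W : Opens Z.toTopCat} (t : Z.presheaf.obj (op W)) :
    secHom i hi f hf W t = secMap i hi f hf t := rfl

/-- the morphism of presheafed spaces -/
noncomputable def psHom : Y.toPresheafedSpace.Hom Z.toPresheafedSpace where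
  base := baseMap i hi f hf
  c :=
    { app := fun W => secHom i hi f hf W.unop
      naturality := by
        intro W W' r
        ext t
        change secMap i hi f hf (Z.presheaf.map r t) =
          Y.presheaf.map ((Opens.map (baseMap i hi f hf)).map r.unop).op (secMap i hi f hf t)
        apply section_ext
        intro y hy
        obtain ⟨U, hU, s, hs⟩ := exists_lift_at i hi f hf (Z.presheaf.map r t) y hy
        have hs0 : IsLift i t s := by
          obtain ⟨h, e⟩ := hs
          exact ⟨h.trans (leOfHom r.unop), e.trans (res_res (leOfHom r.unop) h t)⟩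
        rw [TopCat.Presheaf.germ_res_apply, isImage_secMap i hi f hf _ U s hs y hy hU,
          isImage_secMap i hi f hf t U s hs0 y _ hU] }

lemma isUnit_germ_congr {U : Opens X.toTopCat} (s : X.presheaf.obj (op U)) {x x' : X.toTopCat}
    (e : x = x') (hx : x ∈ U) (hx' : x' ∈ U) (h : IsUnit (X.presheaf.germ U x hx s)) :
    IsUnit (X.presheaf.germ U x' hx' s) := by
  subst e
  exact h

/-- the factorisation of `f` through the closed immersion `i` -/
noncomputable def fac : Y ⟶ Z where
  toHom := psHom i hi f hf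
  prop y := ⟨fun a ha => by
    obtain ⟨W, hz, t, rfl⟩ := Z.presheaf.exists_germ_eq a
    rw [PresheafedSpace.stalkMap_germ_apply] at ha
    change IsUnit (Y.presheaf.germ _ y hz (secMap i hi f hf t)) at ha
    obtain ⟨U, hU, s, hs⟩ := exists_lift_at i hi f hf t y hz
    rw [isImage_secMap i hi f hf t U s hs y hz hU, ← germ_c] at ha
    have hb := isUnit_of_map_unit (f.stalkMap y).hom _ ha
    have hU' : i.base (baseMap i hi f hf y) ∈ U := (base_baseMap i hi f hf y).symm ▸ hU
    have hb' := (isUnit_germ_congr s (base_baseMap i hi f hf y).symm hU hU' hb).map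
      (i.stalkMap (baseMap i hi f hf y)).hom
    obtain ⟨hle, e⟩ := hs
    change IsUnit (i.stalkMap _ _) at hb'
    rw [germ_c, e, germ_res] at hb'
    exact hb'⟩

lemma hom_ext {A B : LocallyRingedSpace.{u}} {φ ψ : A ⟶ B} (w : φ.base = ψ.base)
    (h : ∀ (U : Opens B.toTopCat) (s : B.presheaf.obj (op U)) (a : A.toTopCat)
      (ha : φ.base a ∈ U) (ha' : ψ.base a ∈ U),
      A.presheaf.germ (pre φ U) a ha (φ.c.app (op U) s) =
        A.presheaf.germ (pre ψ U) a ha' (ψ.c.app (op U) s)) : φ = ψ := by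
  apply LocallyRingedSpace.Hom.ext'
  refine PresheafedSpace.ext _ _ w ?_
  apply NatTrans.ext
  funext ⟨U⟩
  ext s
  show (A.presheaf.map _).hom _ = _
  apply section_ext
  intro a ha
  refine (TopCat.Presheaf.germ_res_apply A.presheaf _ a ha _).trans ?_
  exact h U s a _ ha

theorem fac_comp : fac i hi f hf ≫ i = f := by
  refine hom_ext ?_ ?_
  · ext y
    exact base_baseMap i hi f hf y
  · intro U s y hy hy'
    exact isImage_secMap i hi f hf (i.c.app (op U) s) U s
      ⟨le_refl _, by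
        show i.c.app (op U) s = Z.presheaf.map (𝟙 _) _
        rw [CategoryTheory.Functor.map_id]; rfl⟩ y hy hy'

include hi in
theorem fac_unique {g g' : Y ⟶ Z} (h : g ≫ i = g' ≫ i) : g = g' := by
  have hb : g.base = g'.base := by
    ext y
    apply hi.1.injective
    exact ConcreteCategory.congr_hom (congrArg (fun k : Y ⟶ X => k.base) h) y
  refine hom_ext hb ?_
  intro W t y hy hy'
  obtain ⟨U, hU, s, hle, hs⟩ := exists_isLift i hi t (g.base y) hy
  have key : ∀ (k : Y ⟶ Z) (hk : k.base y ∈ W) (hkU : i.base (k.base y) ∈ U),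
      Y.presheaf.germ (pre k W) y hk (k.c.app (op W) t) =
        Y.presheaf.germ (pre (k ≫ i) U) y hkU ((k ≫ i).c.app (op U) s) := by
    intro k hk hkU
    show _ = Y.presheaf.germ (pre k (pre i U)) y hkU (k.c.app (op (pre i U)) (i.c.app (op U) s))
    rw [hs, c_res, germ_res]
  have hkU' : i.base (g'.base y) ∈ U := hb ▸ hU
  rw [key g hy hU, key g' hy' hkU']
  have : ∀ (k k' : Y ⟶ X) (e : k = k') (h1 : k.base y ∈ U) (h2 : k'.base y ∈ U),
      Y.presheaf.germ (pre k U) y h1 (k.c.app (op U) s) =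
        Y.presheaf.germ (pre k' U) y h2 (k'.c.app (op U) s) := by
    rintro k k' rfl h1 h2
    rfl
  exact this _ _ h hU hkU'

omit hi hf in
theorem kills_comp (g : Y ⟶ Z) : Kills i (g ≫ i) := by
  intro U s hs
  show g.c.app (op (pre i U)) (i.c.app (op U) s) = 0
  rw [hs, map_zero]

include hi in
theorem exists_fac_iff :
    ((∃ g : Y ⟶ Z, g ≫ i = f) ↔ Kills i f) ∧
      ∀ g g' : Y ⟶ Z, g ≫ i = f → g' ≫ i = f → g = g' :=
  ⟨⟨fun ⟨g, hg⟩ => hg ▸ kills_comp i g, fun h => ⟨fac i hi f h, fac_comp i hi f h⟩⟩,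
    fun _ _ h h' => fac_unique i hi (h.trans h'.symm)⟩

/-- two closed immersions killing the same sections are isomorphic -/
theorem exists_iso {Z' : LocallyRingedSpace.{u}} (i' : Z' ⟶ X)
    (hi' : LRSImm.IsClosedImmersion i')
    (h : ∀ (U : Opens X.toTopCat) (s : X.presheaf.obj (op U)),
      i.c.app (op U) s = 0 ↔ i'.c.app (op U) s = 0) (hi : LRSImm.IsClosedImmersion i) :
    ∃ e : Z ≅ Z', e.hom ≫ i' = i := by
  have h1 : Kills i' i := fun U s => (h U s).2
  have h2 : Kills i i' := fun U s => (h U s).1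
  refine ⟨⟨fac i' hi' i h1, fac i hi i' h2, ?_, ?_⟩, fac_comp i' hi' i h1⟩
  · exact fac_unique i hi (by rw [Category.assoc, fac_comp, fac_comp, Category.id_comp])
  · exact fac_unique i' hi' (by rw [Category.assoc, fac_comp, fac_comp, Category.id_comp])

end Groth.L19.LRSI
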